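import Groth.Agent.Sga3.H792.PowFlat
import Groth.Agent.UnramA.FibreFlat

/-!
# Multiplication by an integer invertible on the base is étale

* `etale_zpow`: for a commutative group scheme, flat and locally of finite presentation over `S`, and an
  integer `d` which is non-zero in every residue field of `S`, the `d`-th power map is étale.
* `etale_pow`: the same for natural numbers.
-/

set_option autoImplicit false

universe u

open CategoryTheory CategoryTheory.Limits AlgebraicGeometry MonObj
open MonoidalCategory CartesianMonoidalCategory

namespace Groth.Agent.Sga7.H751.PowEtale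

open Groth.Agent.Grpsch.AbBC

section

attribute [local instance] Functor.grpObjObj

theorem etale_zpow_pullback {K : Type u} [Field K] {S : Scheme.{u}} (i : Spec (CommRingCat.of K) ⟶ S)
    (G : Over S) [GrpObj G] [IsCommMonObj G] [LocallyOfFiniteType G.hom] (d : ℤ) (hd : (d : K) ≠ 0) :
    Etale ((Over.pullback i).map (𝟙 G ^ d)).left := by
  rw [map_zpow_one]
  have : LocallyOfFiniteType ((Over.pullback i).obj G).hom := by
    dsimp; infer_instance
  have : IsCommMonObj ((Over.pullback i).obj G) := by
    infer_instance
  exact Groth.Agent.Sga3.H792.PowFlat.etale_zpow_comm _ hd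

end

/-- On a commutative group scheme, flat and locally of finite presentation over `S`, the `d`-th power map is
étale if `d` is invertible on `S`. -/
theorem etale_zpow {S : Scheme.{u}} (G : Over S) [GrpObj G] [IsCommMonObj G] [Flat G.hom]
    [LocallyOfFinitePresentation G.hom] (d : ℤ) (hd : ∀ s : S, (d : S.residueField s) ≠ 0) :
    Etale (𝟙 G ^ d).left := by
  refine Groth.Agent.UnramA.FibreFlat.etale_of_fibres G.hom G.hom _ (Over.w _) (fun s => ?_)
  have h1 : Etale ((Over.pullback (S.fromSpecResidueField s)).map (𝟙 G ^ d)).left :=
    etale_zpow_pullback (K := S.residueField s) (S.fromSpecResidueField s) G d (hd s)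
  have h2 := (isPullback_pullback_map (S.fromSpecResidueField s) (𝟙 G ^ d)).flip
  have h3 : pullback.snd (𝟙 G ^ d).left (G.hom.fiberι s) =
      h2.isoPullback.inv ≫ ((Over.pullback (S.fromSpecResidueField s)).map (𝟙 G ^ d)).left := by
    exact h2.isoPullback_inv_snd.symm
  rw [h3]
  have h4 : Etale h2.isoPullback.inv := inferInstance
  exact MorphismProperty.comp_mem @Etale _ _ h4 h1

/-- On a commutative group scheme, flat and locally of finite presentation over `S`, the `n`-th power map is
étale if `n` is invertible on `S`. -/
theorem etale_pow {S : Scheme.{u}} (G : Over S) [GrpObj G] [IsCommMonObj G] [Flat G.hom]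
    [LocallyOfFinitePresentation G.hom] (n : ℕ) (hn : ∀ s : S, (n : S.residueField s) ≠ 0) :
    Etale (𝟙 G ^ n).left := by
  have h := etale_zpow G (n : ℤ) (fun s => by exact_mod_cast hn s)
  rwa [zpow_natCast] at h

end Groth.Agent.Sga7.H751.PowEtale
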