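import Groth.Agent.Sga7.H751.PowEtale
import Groth.Agent.Sga7.H750.SecComp
import Groth.Agent.Sga3C.HomogConn

/-!
# Roots of sections of commutative group schemes over strictly henselian local rings

* `isCommMonObj_of_isNeron`: a Néron model of an abelian variety is commutative.
* `isPreirreducible_connectedComponentIn`: connected components of the special fibre of a group scheme
  are irreducible.
* `exists_root`: `n`-th roots of sections exist near a point of the special fibre at which they exist.
* `exists_root_mem_secUnitComp`: sections through the identity component are `n`-divisible by such sections.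
-/

set_option autoImplicit false

universe u

open CategoryTheory CategoryTheory.Limits AlgebraicGeometry MonObj
open MonoidalCategory CartesianMonoidalCategory

namespace Groth.Agent.Sga7.H751.SecRoot

open Groth.Agent.Sga7.H750.SecComp

section Comm

attribute [local instance] Functor.grpObjObj in
/-- A group scheme which is the Néron model of an abelian variety is commutative. -/
theorem isCommMonObj_of_isNeron (R K : Type u) [CommRing R] [Field K] [Algebra R K]
    (N : Over (Spec (CommRingCat.of R))) [GrpObj N] (hN : SGA7.IsNeron R K N)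
    [IsProper ((SGA7.genFib R K).obj N).hom] [GeometricallyIntegral ((SGA7.genFib R K).obj N).hom] :
    IsCommMonObj N := by
  obtain ⟨hsm, -, -, hN⟩ := hN
  have hc : IsCommMonObj ((SGA7.genFib R K).obj N) := isCommMonObj_of_isProper_of_geometricallyIntegral _
  rw [isCommMonObj_iff_commutator_eq_toUnit_η] at hc ⊢
  have hY : Smooth (N ⊗ N).hom := by dsimp; infer_instance
  apply (hN _ hY).1
  change (SGA7.genFib R K).map _ = (SGA7.genFib R K).map _
  rw [← cancel_epi (Functor.Monoidal.μIso (SGA7.genFib R K) N N).hom]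
  dsimp [GrpObj.commutator] at hc ⊢
  simpa only [Functor.map_mul, one_eq_one, comp_one, Functor.map_one, Functor.map_inv',
    comp_mul, GrpObj.comp_inv, Functor.Monoidal.μIso_hom, Functor.Monoidal.μ_fst,
    Functor.Monoidal.μ_snd] using hc

end Comm

section Irr

theorem connectedComponentIn_range {X Y : Type*} [TopologicalSpace X] [TopologicalSpace Y] {E : X → Y}
    (hE : Topology.IsEmbedding E) (x : X) :
    connectedComponentIn (Set.range E) (E x) = E '' connectedComponent x := by
  apply Set.Subset.antisymm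
  · intro y hy
    obtain ⟨x', rfl⟩ := connectedComponentIn_subset _ _ hy
    refine ⟨x', ?_, rfl⟩
    have h1 : IsPreconnected (E ⁻¹' (connectedComponentIn (Set.range E) (E x))) := by
      rw [← hE.isInducing.isPreconnected_image,
        Set.image_preimage_eq_of_subset (connectedComponentIn_subset _ _)]
      exact isPreconnected_connectedComponentIn
    exact h1.subset_connectedComponent (mem_connectedComponentIn ⟨x, rfl⟩) hy
  · refine IsPreconnected.subset_connectedComponentIn
      (isPreconnected_connectedComponent.image _ hE.continuous.continuousOn) ⟨x, mem_connectedComponent, rfl⟩ ?_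
    exact Set.image_subset_range _ _

variable {R : Type u} [CommRing R] [IsLocalRing R] (N : Over (Spec (CommRingCat.of R)))

/-- Connected components of the special fibre of a group scheme locally of finite type are irreducible. -/
theorem isPreirreducible_connectedComponentIn [GrpObj N] [LocallyOfFiniteType N.hom] (c : N.left)
    (hc : c ∈ SGA7.specialFibreSet R N) :
    IsPreirreducible (connectedComponentIn (SGA7.specialFibreSet R N) c) := by
  let k := IsLocalRing.ResidueField R
  let s : Spec (CommRingCat.of k) ⟶ Spec (CommRingCat.of R) :=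
    Spec.map (CommRingCat.ofHom (IsLocalRing.residue R))
  have hs : ∀ z, s z = IsLocalRing.closedPoint R := by
    intro z
    have hz : z = IsLocalRing.closedPoint k := Subsingleton.elim (α := PrimeSpectrum k) _ _
    rw [hz]
    exact IsLocalRing.comap_closedPoint (IsLocalRing.residue R)
  have hsc : IsClosedImmersion s := IsClosedImmersion.spec_of_surjective _ Ideal.Quotient.mk_surjective
  let := Functor.grpObjObj (F := Over.pullback s) (G := N)
  let G' := (Over.pullback s).obj N
  have hft : LocallyOfFiniteType G'.hom :=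
    inferInstanceAs (LocallyOfFiniteType (pullback.snd N.hom s))
  have hNoeth : IsLocallyNoetherian G'.left := LocallyOfFiniteType.isLocallyNoetherian G'.hom
  let E : G'.left ⟶ N.left := pullback.fst N.hom s
  have hE : Topology.IsEmbedding E := (pullback.fst N.hom s).isClosedEmbedding.isEmbedding
  have hr : Set.range E = SGA7.specialFibreSet R N := by
    change Set.range (pullback.fst N.hom s) = N.hom ⁻¹' {IsLocalRing.closedPoint R}
    rw [Scheme.Pullback.range_fst]
    congr 1
    ext z
    constructor
    · rintro ⟨w, rfl⟩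
      exact hs w
    · rintro rfl
      exact ⟨IsLocalRing.closedPoint k, hs _⟩
  obtain ⟨x, rfl⟩ : c ∈ Set.range E := by rw [hr]; exact hc
  rw [← hr, connectedComponentIn_range hE]
  exact (Groth.Agent.Sga3C.HomogConn.isPreirreducible_connectedComponent
    (Groth.Agent.Sga3C.Transl.regular G') (Groth.Agent.Sga3C.Transl.surjective_regular G') x).image _
    hE.continuous.continuousOn

end Irr

section Root

variable {R : Type u} [CommRing R] [IsLocalRing R] (N : Over (Spec (CommRingCat.of R))) [GrpObj N]

/-- Let `N` be a group scheme over a strictly henselian local ring whose `n`-th power map is étale, `z` a section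
of `N` and `c` a point with `cⁿ = z` in the special fibre.  Every neighbourhood of `c` is met by a section `w` with
`wⁿ = z`. -/
theorem exists_root (hR : EtCoh.IsStrictlyHenselianLocalRing R) (n : ℕ) [Etale (𝟙 N ^ n).left]
    (z : 𝟙_ (Over (Spec (CommRingCat.of R))) ⟶ N) (c : N.left)
    (hcz : (𝟙 N ^ n).left c = z.left (IsLocalRing.closedPoint R)) (O : Set N.left) (hO : IsOpen O) (hcO : c ∈ O) :
    ∃ w : 𝟙_ (Over (Spec (CommRingCat.of R))) ⟶ N, w ^ n = z ∧ w.left (IsLocalRing.closedPoint R) ∈ O := by
  obtain ⟨y, hy1, hy2⟩ := Scheme.Pullback.exists_preimage_pullback (f := (𝟙 N ^ n).left) (g := z.left) c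
    (IsLocalRing.closedPoint R) hcz
  obtain ⟨a, ha, haO⟩ := Dix.NeronEllPts.exists_section hR (pullback.snd (𝟙 N ^ n).left z.left) y hy2
    ((pullback.fst (𝟙 N ^ n).left z.left) ⁻¹' O) (hO.preimage (pullback.fst (𝟙 N ^ n).left z.left).continuous)
    (by rw [Set.mem_preimage, hy1]; exact hcO)
  have hw : a ≫ pullback.fst (𝟙 N ^ n).left z.left ≫ (𝟙 N ^ n).left = z.left := by
    rw [pullback.condition, ← Category.assoc, ha, Category.id_comp]
  let w : 𝟙_ (Over (Spec (CommRingCat.of R))) ⟶ N :=
    Over.homMk (a ≫ pullback.fst (𝟙 N ^ n).left z.left) (by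
      have h1 := Over.w (𝟙 N ^ n)
      have h2 := Over.w z
      rw [← h1, ← Category.assoc, Category.assoc a, hw, h2])
  refine ⟨w, ?_, haO⟩
  have h1 : w ≫ 𝟙 N ^ n = w ^ n := by rw [MonObj.comp_pow, Category.comp_id]
  rw [← h1]
  ext1
  rw [Over.comp_left]
  change (a ≫ pullback.fst (𝟙 N ^ n).left z.left) ≫ _ = _
  rw [Category.assoc, hw]

theorem mul_mem_secUnitComp {x y : 𝟙_ (Over (Spec (CommRingCat.of R))) ⟶ N} (hx : x ∈ SGA7.secUnitComp R N)
    (hy : y ∈ SGA7.secUnitComp R N) : x * y ∈ SGA7.secUnitComp R N := by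
  rw [mem_secUnitComp_iff] at hx hy ⊢
  rw [← hy, ← secComp_mul_right_eq_iff N x 1 y] at *
  rw [hx, _root_.one_mul]

/-- The automorphism `g ↦ g⁻¹ z` of a group object. -/
noncomputable def refl (z : 𝟙_ (Over (Spec (CommRingCat.of R))) ⟶ N) : N ≅ N where
  hom := (𝟙 N)⁻¹ ≫ rTHom z
  inv := rTHom z⁻¹ ≫ (𝟙 N)⁻¹
  hom_inv_id := by
    rw [Category.assoc, ← Category.assoc (rTHom z), rTHom_comp, mul_inv_cancel, rTHom_one, Category.id_comp,
      GrpObj.comp_inv, Category.comp_id, inv_inv]
  inv_hom_id := by
    rw [Category.assoc, ← Category.assoc (𝟙 N)⁻¹, GrpObj.comp_inv, Category.comp_id, inv_inv, Category.id_comp,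
      rTHom_comp, inv_mul_cancel, rTHom_one]

omit [IsLocalRing R] in
theorem sec_comp_refl (x z : 𝟙_ (Over (Spec (CommRingCat.of R))) ⟶ N) : x ≫ (refl N z).hom = x⁻¹ * z := by
  change x ≫ (𝟙 N)⁻¹ ≫ rTHom z = _
  rw [← Category.assoc, GrpObj.comp_inv, Category.comp_id, sec_comp_rTHom]

/-- Let `N` be a commutative group scheme of finite type over a strictly henselian Noetherian local ring whose
`n`-th power map is étale.  A section through the identity component of the special fibre is the `n`-th power of
such a section. -/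
theorem exists_root_mem_secUnitComp [IsNoetherianRing R] [IsCommMonObj N] [Smooth N.hom] [QuasiCompact N.hom]
    (hR : EtCoh.IsStrictlyHenselianLocalRing R) (n : ℕ) [Etale (𝟙 N ^ n).left]
    (z : 𝟙_ (Over (Spec (CommRingCat.of R))) ⟶ N) (hz : z ∈ SGA7.secUnitComp R N) :
    ∃ w ∈ SGA7.secUnitComp R N, w ^ n = z := by
  have := noetherianSpace N
  let s := IsLocalRing.closedPoint R
  let F := SGA7.specialFibreSet R N
  let C := connectedComponentIn F (η[N].left s)
  have hηF : η[N].left s ∈ F := section_mem_specialFibreSet N η[N]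
  obtain ⟨O, hO, hOF⟩ := exists_isOpen_inter_eq F hηF
  have hηO : η[N].left s ∈ O := (hOF.ge (mem_connectedComponentIn hηF)).1
  have hC : IsPreirreducible C := isPreirreducible_connectedComponentIn N _ hηF
  have hCF : C ⊆ F := connectedComponentIn_subset _ _
  have hfF : ∀ (f : N ⟶ N) (c : N.left), f.left c ∈ F → c ∈ F := by
    intro f c hc
    have h1 : N.hom (f.left c) = N.hom c := by rw [← Scheme.Hom.comp_apply, Over.w f]
    change N.hom c = s
    rw [← h1]
    exact hc
  have hη : η[N] ≫ (𝟙 N ^ n) = η[N] := by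
    rw [MonObj.comp_pow, Category.comp_id, MonObj.one_eq_one, one_pow]
  have hηz : η[N] ≫ (refl N z).hom = z := by
    rw [sec_comp_refl, MonObj.one_eq_one, inv_one, _root_.one_mul]
  let f : N.left → N.left := (𝟙 N ^ n).left
  let θ : N.left ≃ₜ N.left := Scheme.homeoOfIso ((Over.forget _).mapIso (refl N z))
  have hfo : IsOpenMap f := (𝟙 N ^ n).left.isOpenMap
  have hfη : f (η[N].left s) = η[N].left s := by
    change (𝟙 N ^ n).left (η[N].left s) = _
    rw [← Scheme.Hom.comp_apply, ← Over.comp_left, hη]
  have hθη : θ (η[N].left s) = z.left s := by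
    change (refl N z).hom.left (η[N].left s) = _
    rw [← Scheme.Hom.comp_apply, ← Over.comp_left, hηz]
  obtain ⟨p, hpC, hp1, hp2⟩ := hC (f '' O) (θ '' (f '' O)) (hfo O hO) (θ.isOpenMap _ (hfo O hO))
    ⟨_, mem_connectedComponentIn hηF, _, hηO, hfη⟩
    ⟨_, hz, _, ⟨_, hηO, hfη⟩, hθη⟩
  obtain ⟨a, ha, haO1, haO2⟩ := Dix.NeronEllPts.exists_section hR N.hom p (hCF hpC) (f '' O ∩ θ '' (f '' O))
    ((hfo O hO).inter (θ.isOpenMap _ (hfo O hO))) ⟨hp1, hp2⟩
  let q : 𝟙_ (Over (Spec (CommRingCat.of R))) ⟶ N := Over.homMk a ha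
  obtain ⟨c₁, hc₁, hc₁'⟩ := haO1
  obtain ⟨_, ⟨c₂, hc₂, rfl⟩, hc₂'⟩ := haO2
  obtain ⟨w₁, hw₁, hw₁'⟩ := exists_root N hR n q c₁ hc₁' O hO hc₁
  obtain ⟨w₂, hw₂, hw₂'⟩ := exists_root N hR n (q ≫ (refl N z).inv) c₂ (by
    have h1 : (refl N z).inv.left ((refl N z).hom.left (f c₂)) = (refl N z).inv.left (a s) :=
      congrArg _ hc₂'
    rw [← Scheme.Hom.comp_apply, ← Over.comp_left, Iso.hom_inv_id] at h1
    rw [Over.comp_left, Scheme.Hom.comp_apply]
    exact h1) O hO hc₂
  have hC₁ : w₁ ∈ SGA7.secUnitComp R N := hOF.le ⟨hw₁', section_mem_specialFibreSet N w₁⟩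
  have hC₂ : w₂ ∈ SGA7.secUnitComp R N := hOF.le ⟨hw₂', section_mem_specialFibreSet N w₂⟩
  refine ⟨w₂ * w₁, mul_mem_secUnitComp N hC₂ hC₁, ?_⟩
  have h2 : (w₂ ^ n) ≫ (refl N z).hom = q := by rw [hw₂, Category.assoc, Iso.inv_hom_id, Category.comp_id]
  rw [sec_comp_refl, ← hw₁] at h2
  have h3 : (w₂ * w₁) ^ n = w₂ ^ n * w₁ ^ n := _root_.mul_pow w₂ w₁ n
  rw [h3, ← h2, mul_inv_cancel_left]

end Root

end Groth.Agent.Sga7.H751.SecRoot
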